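import Cfsg.Agent.H742.EX.EPi
import Cfsg.Agent.H742.EX.NoS
import Cfsg.Agent.H867.TitsOut
import Cfsg.Agent.H476.TF.TwoT
import Cfsg.Agent.H476.TF.FourM
import Cfsg.Agent.S1062

/-!
# S5745, `T` the Tits group, `k = 1`: the crude form of `E_π` (helper476)

* `dvd_H` : `|H|` divides `35942400 = 2 |T|`;
* `kill` : in even characteristic: if `|C_G(x)| ≤ B` for all elements `x` of order `3`, `5`, `13` and
  `2 ^ 51 * B ≤ |G|` then `H` is not the stabiliser of an extremely primitive group;
* `f4_four` : the row `G = F₄(4)` of S5745 (`|C_G(x)| ≤ 4 ^ 9 * 5 ^ 13 * 9` by `FourM`).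
-/

set_option autoImplicit false

namespace Cfsg.Agent.H476.TF

open Subgroup Cfsg Cfsg.Lie Cfsg.Agent.H209.EPX Cfsg.Agent.H284 Cfsg.Agent.H742.EX

section

variable {G : Type*} [Group G] {H N : Subgroup G}

/-- the action of `H` on `N` (copy of `H742.EX.act`) -/
noncomputable def actN (h : NIn N H) : H →* MulAut N where
  toFun g :=
    { toFun := fun n => ⟨g * n * (g : G)⁻¹, h.nrm g g.2 n n.2⟩
      invFun := fun n => ⟨(g : G)⁻¹ * n * g, by
        have := h.nrm (g : G)⁻¹ (inv_mem g.2) n n.2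
        rwa [inv_inv] at this⟩
      left_inv := fun n => Subtype.ext (by simp [mul_assoc])
      right_inv := fun n => Subtype.ext (by simp [mul_assoc])
      map_mul' := fun a b => Subtype.ext (by simp [mul_assoc]) }
  map_one' := by
    ext n
    simp
  map_mul' := fun a b => by
    ext n
    simp [mul_assoc]

variable [Finite G] {T : Type} [Group T] {e : N ≃* (Fin 1 → T)}

theorem card_aut_dvd {T : Type*} [Group T] [Finite T] : Nat.card (MulAut T) ∣ Nat.card T * Nat.card (Cfsg.Out T) := by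
  have h1 := Subgroup.card_eq_card_quotient_mul_card_subgroup (Cfsg.Inn T)
  have h2 : Nat.card (Cfsg.Inn T) ∣ Nat.card T := Subgroup.card_range_dvd (MulAut.conj : T →* MulAut T)
  rw [h1, mul_comm]
  exact mul_dvd_mul h2 dvd_rfl

theorem dvd_H (h : EPS H N e) (hT : IsoTits T) : Nat.card H ∣ 35942400 := by
  let e' : N ≃* T := e.trans (MulEquiv.funUnique (Fin 1) T)
  have hfT : Finite T := Finite.of_equiv N e'.toEquiv
  have hfA : Finite (MulAut T) := inferInstance
  let f : H →* MulAut T := (MulAut.congr e').toMonoidHom.comp (actN h.toNIn)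
  have hf : Function.Injective f := by
    have h1 : Function.Injective (actN h.toNIn) := by
      rw [injective_iff_map_eq_one]
      intro g hg
      have h2 : (g : G) ∈ Subgroup.centralizer (N : Set G) := by
        rw [Subgroup.mem_centralizer_iff]
        intro n hn
        have h3 := congrArg (fun φ : MulAut N => ((φ ⟨n, hn⟩ : N) : G)) hg
        have h4 : (g : G) * n * (g : G)⁻¹ = n := h3
        rw [mul_inv_eq_iff_eq_mul] at h4
        exact h4.symm
      rw [h.cent, mem_bot] at h2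
      exact Subtype.ext h2
    exact (MulAut.congr e').injective.comp h1
  have h1 := Subgroup.card_dvd_of_injective f hf
  have h2 : Nat.card (Cfsg.Out T) ∣ 2 := by
    have h3 := H867.TitsOut.card_out_le hT
    have h4 : 0 < Nat.card (Cfsg.Out T) := Nat.card_pos
    interval_cases Nat.card (Cfsg.Out T) <;> norm_num
  refine (h1.trans card_aut_dvd).trans ?_
  rw [card_tits hT]
  exact (mul_dvd_mul_left _ h2).trans (by norm_num)

theorem primeFactors_H (h : EPS H N e) (hT : IsoTits T) : (Nat.card H).primeFactors.erase 2 ⊆ {3, 5, 13} := by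
  intro r hr
  rw [Finset.mem_erase, Nat.mem_primeFactors] at hr
  obtain ⟨hr2, hrp, hrd, -⟩ := hr
  have h1 : r ∣ 2 ^ 12 * (3 ^ 3 * (5 ^ 2 * 13)) := by
    have h3 : (2 ^ 12 * (3 ^ 3 * (5 ^ 2 * 13)) : ℕ) = 35942400 := by norm_num
    rw [h3]
    exact hrd.trans (dvd_H h hT)
  have hq : ∀ {p : ℕ}, p.Prime → r ∣ p → r = p := fun hp hd => (Nat.prime_dvd_prime_iff_eq hrp hp).1 hd
  rw [hrp.dvd_mul, hrp.dvd_mul, hrp.dvd_mul] at h1
  simp only [Finset.mem_insert, Finset.mem_singleton]
  rcases h1 with h1 | h1 | h1 | h1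
  · exact absurd (hq Nat.prime_two (hrp.dvd_of_dvd_pow h1)) hr2
  · exact Or.inl (hq Nat.prime_three (hrp.dvd_of_dvd_pow h1))
  · exact Or.inr (Or.inl (hq Nat.prime_five (hrp.dvd_of_dvd_pow h1)))
  · exact Or.inr (Or.inr (hq (by norm_num) h1))

theorem cG_ge {G : Type*} [Group G] [Finite G] {x : G} {B c : ℕ} (h1 : Nat.card ↥(centralizer ({x} : Set G)) ≤ B)
    (h2 : c * B ≤ Nat.card G) : c ≤ cG x := by
  have h3 := card_G x
  have h4 : Nat.card {g : G // g⁻¹ * x * g = x} = Nat.card ↥(centralizer ({x} : Set G)) := by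
    refine Nat.card_congr (Equiv.subtypeEquivRight fun g => ?_)
    rw [mem_centralizer_singleton_iff, mul_assoc, inv_mul_eq_iff_eq_mul, eq_comm]
  rw [h4] at h3
  have hB : 0 < B := Nat.card_pos.trans_le h1
  by_contra hlt
  push Not at hlt
  have h5 : cG x * Nat.card ↥(centralizer ({x} : Set G)) < c * B := by
    calc cG x * Nat.card ↥(centralizer ({x} : Set G)) ≤ cG x * B := Nat.mul_le_mul_left _ h1
      _ < c * B := Nat.mul_lt_mul_of_pos_right hlt hB
  omega

/-- **The kill** -/
theorem kill (h : EPS H N e) (hT : IsoTits T) {B : ℕ}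
    (hC : ∀ x : G, (orderOf x = 3 ∨ orderOf x = 5 ∨ orderOf x = 13) →
      Nat.card ↥(centralizer ({x} : Set G)) ≤ B)
    (hG : 2 ^ 51 * B ≤ Nat.card G) (hG2 : 35942400 * 2 < Nat.card G) : False := by
  have hH : Nat.card H ≤ 35942400 := Nat.le_of_dvd (by norm_num) (dvd_H h hT)
  have hM : ∀ g ∉ H, ∃ r ∈ ({3, 5, 13} : Finset ℕ), r ∣ Nat.card (H ⊓ cj g H : Subgroup G) := by
    intro g hg
    obtain ⟨r, hr, hd⟩ := EPS.hM_two h (noC_tits hT) g hg
    exact ⟨r, primeFactors_H h hT hr, hd⟩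
  have hp : ∀ r ∈ ({3, 5, 13} : Finset ℕ), r.Prime := by
    intro r hr
    simp only [Finset.mem_insert, Finset.mem_singleton] at hr
    rcases hr with rfl | rfl | rfl <;> norm_num
  have key := e_pi_crude H {3, 5, 13} hp hM (fun _ => 35942400) (fun _ => 2 ^ 51)
    (by
      intro r hr
      refine le_trans ?_ hH
      have h1 : (el H r).card = Nat.card (el H r) := by rw [Nat.card_eq_fintype_card, Fintype.card_coe]
      rw [h1]
      refine Nat.card_le_card_of_injective (fun x : el H r => (⟨x.1, (mem_el.1 x.2).1⟩ : H)) ?_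
      intro a b hab
      exact Subtype.ext (congrArg (fun t : H => (t : G)) hab))
    (by intro r _; positivity)
    (by
      intro r hr x _ hx
      refine cG_ge (hC x ?_) hG
      simp only [Finset.mem_insert, Finset.mem_singleton] at hr
      rw [hx]
      exact hr)
  have hsum : ∑ r ∈ ({3, 5, 13} : Finset ℕ), (((35942400 : ℕ) : ℚ) ^ 2 / (((r : ℚ) - 1) * ((2 ^ 51 : ℕ) : ℚ))) ≤ 1 / 2 := by
    rw [Finset.sum_insert (by norm_num), Finset.sum_insert (by norm_num), Finset.sum_singleton]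
    norm_num
  have h3 : (2 : ℚ) < H.index := by
    have h4 : 2 < H.index := by
      by_contra hle
      push Not at hle
      have h5 := H.card_mul_index
      have h6 : Nat.card H * H.index ≤ 35942400 * 2 := Nat.mul_le_mul hH hle
      omega
    exact_mod_cast h4
  have h4 : (H.index : ℚ) * ∑ r ∈ ({3, 5, 13} : Finset ℕ), (((35942400 : ℕ) : ℚ) ^ 2 / (((r : ℚ) - 1) * ((2 ^ 51 : ℕ) : ℚ))) ≤
      H.index * (1 / 2) := mul_le_mul_of_nonneg_left hsum (by linarith)
  have h5 := key.trans h4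
  linarith

end

/-! ### The group `F₄(4)` -/

/-- the order of `F₄(4)` and the bound of the centralizers -/
theorem four_bound {F : Type*} [Field F] [Fintype F] (hF : Fintype.card F = 4) :
    Nat.card ↥(chevF4.group F) = 4 ^ 24 * (4 ^ 2 - 1) * (4 ^ 6 - 1) * (4 ^ 8 - 1) * (4 ^ 12 - 1) :=
  S1062.result hF

/-- **The row `G = F₄(4)`, `T` the Tits group, of S5745.** -/
theorem f4_four (F : Type*) [Field F] [Fintype F] (hF : Fintype.card F = 4) {H N : Subgroup ↥(chevF4.group F)}
    {T : Type} [Group T] (e : N ≃* (Fin 1 → T)) (h : EPS H N e) (hT : IsoTits T) : False := by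
  have hG := four_bound hF
  have : Finite ↥(chevF4.group F) := Nat.finite_of_card_ne_zero (by rw [hG]; norm_num)
  have h2F : ∀ ℓ : ℕ, ¬ 2 ∣ ℓ → (ℓ : F) ≠ 0 := by
    intro ℓ hℓ h0
    obtain ⟨p, hp⟩ := CharP.exists F
    obtain ⟨n, hpp, hn⟩ := FiniteField.card F p
    have h3 : p = 2 := by
      have h4 : p ∣ 2 ^ 2 := by
        have h5 : Fintype.card F = 2 ^ 2 := hF
        rw [← h5, hn]
        exact dvd_pow_self p n.ne_zero
      exact (Nat.prime_dvd_prime_iff_eq hpp Nat.prime_two).1 (hpp.dvd_of_dvd_pow h4)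
    apply hℓ
    rw [← h3]
    exact (CharP.cast_eq_zero_iff F p ℓ).1 h0
  refine kill h hT (B := 4 ^ 9 * (5 ^ 4 * (9 * 5 ^ 9))) ?_ ?_ ?_
  · intro x hx
    have h1 := card_cent_le (ℓ := orderOf x) hx (h2F _ (by
      rcases hx with hx | hx | hx <;> rw [hx] <;> norm_num)) x rfl
    have hF' : Nat.card F = 4 := by rw [Nat.card_eq_fintype_card, hF]
    rw [hF'] at h1
    exact h1
  · rw [hG]
    norm_num
  · rw [hG]
    norm_num

end Cfsg.Agent.H476.TF
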