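import Cfsg.Agent.H476.TF.FourFix
import Cfsg.Agent.H476.TF.Cfg
import Cfsg.Agent.H318.Four.E6Inv

/-!
# S5745: the Tits group is not a subgroup of `F₄(3^a)` (helper476)

On the module of dimension 27 of `E₆` every involution has rank 12 or 16. The subgroup `2 ^ 5` of the Tits group has at
most a one-dimensional fixed space, while `F₄(F)` fixes a vector and a functional that are orthogonal in characteristic 3.
-/

set_option autoImplicit false

namespace Cfsg.Agent.H476.TF

open Cfsg Cfsg.Lie Matrix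
open Cfsg.Agent.ChevalleyStructure.E6Min Cfsg.Agent.ChevalleyStructure.E6Min.Tables
  Cfsg.Agent.ChevalleyStructure.E6Min.Basic Cfsg.Agent.ChevalleyStructure.E6Min.Adjoint
  Cfsg.Agent.KFacts.TwF4.Inst

theorem exists_cfg : ∃ (z : TitsGroup) (x : Fin 4 → TitsGroup) (s : (Fin 4 → Bool) → TitsGroup), Cfg z x s := by
  obtain ⟨φ, hφ⟩ := Cfsg.Agent.ChevalleyStructure.TwF4.TwistedFix.exists_rln (K := ZMod 2) (m := 0) (ZMod.card 2)
  rw [pow_zero] at hφ
  exact cfg (sys hφ) (by exact_mod_cast CharP.cast_eq_zero (ZMod 2) 2)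

theorem eq_zero_of_rank {F : Type*} [Field F] {ι : Type*} [Fintype ι] [DecidableEq ι] (A : Matrix ι ι F)
    (h : A.rank = 0) : A = 0 := by
  rw [Matrix.rank, Submodule.finrank_eq_zero, LinearMap.range_eq_bot] at h
  ext i j
  have h1 := congrFun (LinearMap.congr_fun h (Pi.single j 1)) i
  simpa using h1

theorem no_cfg {F : Type} [Field F] [Fintype F] [CharP F 3] {T : Type*} [Group T] {z : T} {x : Fin 4 → T}
    {s : (Fin 4 → Bool) → T} (C : Cfg z x s) (f : T →* ↥(chevF4.group F)) (hf : Function.Injective f) : False := by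
  have h3 : (3 : F) = 0 := by exact_mod_cast CharP.cast_eq_zero F 3
  have h2 : (2 : F) ≠ 0 := by
    intro h
    have : (1 : F) = 0 := by
      calc (1 : F) = 3 - 2 := by norm_num
        _ = 0 := by rw [h3, h, sub_zero]
    exact one_ne_zero this
  have ho : Odd (Fintype.card F) := by
    obtain ⟨n, -, hn⟩ := FiniteField.card F 3
    rw [hn]
    exact Odd.pow (by decide)
  have hgg : rho F (f z) * rho F (f z) = 1 := by
    rw [← map_mul, ← map_mul, C.zz, map_one, map_one]
  have hr := H318.Four.E6Inv.rank_inv ho h2 hgg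
  have hne : (((rho F (f z) : Zgrp F) : GL I27 F) : Matrix I27 I27 F) ≠ 1 := by
    intro h
    apply C.ne
    apply hf
    apply rho_injective
    rw [map_one, map_one]
    exact Subtype.ext (Units.ext h)
  have hr' : ((((rho F (f z) : Zgrp F) : GL I27 F) : Matrix I27 I27 F) - 1).rank = 12 ∨
      ((((rho F (f z) : Zgrp F) : GL I27 F) : Matrix I27 I27 F) - 1).rank = 16 := by
    refine hr.resolve_left fun h0 => hne ?_
    exact sub_eq_zero.1 (eq_zero_of_rank _ h0)
  exact core h2 (by simp [I27]) ((Zgrp F).subtype.comp ((rho F).comp f)) C hr' (v := v0 F) (w := v0 F) v0_ne v0_ne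
    (fun t => (mem_Fx.1 (rho_mem (f t))).1) (fun t => (mem_Fx.1 (rho_mem (f t))).2) (by rw [dot_v0, h3])

/-- **the Tits group does not embed into `F₄(3^a)`** -/
theorem no_tits {F : Type} [Field F] [Fintype F] [CharP F 3] {T : Type*} [Group T] (hT : IsoTits T)
    (f : T →* ↥(chevF4.group F)) (hf : Function.Injective f) : False := by
  obtain ⟨e⟩ := hT
  obtain ⟨z, x, s, C⟩ := exists_cfg
  exact no_cfg C (f.comp e.symm.toMonoidHom) (hf.comp e.symm.injective)

/-- **rows of S5745**: no subgroup `N ≃ T ^ k`, `k ≥ 1`, `T` the Tits group, in `F₄(3^a)` -/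
theorem no_tits_pow {G : Type*} [Group G] {F : Type} [Field F] [Fintype F] [CharP F 3] (eG : G ≃* ↥(chevF4.group F))
    {N : Subgroup G} {T : Type*} [Group T] (hT : IsoTits T) {k : ℕ} (e : N ≃* (Fin k → T)) (i : Fin k) : False := by
  refine no_tits hT (eG.toMonoidHom.comp (N.subtype.comp (e.symm.toMonoidHom.comp
    (MonoidHom.mulSingle (fun _ : Fin k => T) i)))) ?_
  intro a b h
  have h1 : MonoidHom.mulSingle (fun _ : Fin k => T) i a = MonoidHom.mulSingle (fun _ : Fin k => T) i b :=
    e.symm.injective (Subtype.ext (eG.injective h))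
  have h3 := congrFun h1 i
  simpa using h3

/-- the same, `|F| = 3` -/
theorem charP_three {F : Type} [Field F] [Fintype F] (hF : Fintype.card F = 3) : CharP F 3 := by
  obtain ⟨p, hp⟩ := CharP.exists F
  obtain ⟨n, hpp, hn⟩ := FiniteField.card F p
  rw [hF] at hn
  have h1 : p ∣ 3 := by rw [hn]; exact dvd_pow_self p n.ne_zero
  have h3 : p = 3 := (Nat.prime_dvd_prime_iff_eq hpp Nat.prime_three).1 h1
  subst h3
  exact hp

end Cfsg.Agent.H476.TF
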