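import Cfsg.Agent.H357.EP.Signs

/-!
# S5745, the Tits group in `F₄(3^a)` (helper476): the counting part

`z`, `x 0`, ..., `x 3` commuting involutions of `T`; `T` induces on `⟨z, x 0, ..., x 3⟩` all the transvections
`x i ↦ x i z`; the five elements `x 2`, `x 3`, `x 1 x 2 x 3`, `x 0 x 2 x 3`, `x 0 x 1 x 2 x 3` are conjugate to `z`.
If `ρ` is a representation of degree `27` in odd characteristic such that every involution has rank `12` or `16`, then
the fixed space of `⟨z, x 0, ..., x 3⟩` has dimension at most `1` (`core`): a fixed vector and a fixed functional are not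
orthogonal.
-/

set_option autoImplicit false
set_option linter.unusedSectionVars false
set_option linter.unusedSimpArgs false

namespace Cfsg.Agent.H476.TF

open Module Matrix

universe u v

section Basis

variable {F : Type u} [Field F] {ι : Type*} [Fintype ι] [DecidableEq ι] {E : Type*} {κ : Type} [Fintype κ]

theorem sgn_ne (h2 : (2 : F) ≠ 0) : (-1 : F) ≠ 1 := by
  intro h
  apply h2
  rw [← one_add_one_eq_two]
  nth_rewrite 1 [← h]
  exact neg_add_cancel 1

/-- the sign -/
def sg (F : Type u) [Field F] (c : Bool) : F := if c then -1 else 1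

theorem sg_inj (h2 : (2 : F) ≠ 0) {c d : Bool} (h : sg F c = sg F d) : c = d := by
  have h1 := sgn_ne h2
  cases c <;> cases d <;> simp [sg] at h ⊢
  · exact h1 h.symm
  · exact h1 h

theorem sg_xor (c d : Bool) : sg F (c ^^ d) = sg F c * sg F d := by
  cases c <;> cases d <;> simp [sg]

/-- the rank of `A - 1` for a diagonal matrix with entries `± 1` -/
theorem rank_eq (h2 : (2 : F) ≠ 0) (b : Basis κ F (ι → F)) (A : Matrix ι ι F) (c : κ → Bool)
    (h : ∀ i, A *ᵥ b i = sg F (c i) • b i) : (A - 1).rank = (Finset.univ.filter fun i => c i = true).card := by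
  classical
  have h1 : LinearMap.toMatrix b b (Matrix.toLin' (A - 1)) = Matrix.diagonal fun i => if c i then (-2 : F) else 0 := by
    ext i j
    rw [LinearMap.toMatrix_apply, map_sub, LinearMap.sub_apply, Matrix.toLin'_apply, h j, Matrix.toLin'_one,
      LinearMap.id_apply]
    rw [map_sub, map_smul, Basis.repr_self]
    by_cases hij : i = j
    · subst hij
      rw [Matrix.diagonal_apply_eq]
      rcases hx : c i with _ | _
      · simp [sg]
      · simp [sg]
        norm_num
    · rw [Matrix.diagonal_apply_ne _ hij]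
      simp [Finsupp.single_apply, Ne.symm hij]
  have h3 : (A - 1).rank = (LinearMap.toMatrix b b (Matrix.toLin' (A - 1))).rank := by
    rw [Matrix.rank_eq_finrank_range_toLin _ b b, Matrix.toLin_toMatrix]
    rfl
  rw [h3, h1, Matrix.rank_diagonal, Fintype.card_subtype]
  congr 1
  ext i
  rcases hx : c i with _ | _
  · simp [hx]
  · simp [hx, h2]

/-- an eigenvector with a nonzero coordinate -/
theorem eq_of_repr (h2 : (2 : F) ≠ 0) (b : Basis κ F (ι → F)) (A : Matrix ι ι F) (c : κ → Bool)
    (h : ∀ i, A *ᵥ b i = sg F (c i) • b i) {w : ι → F} {d : Bool} (hw : A *ᵥ w = sg F d • w) {i : κ}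
    (hi : b.repr w i ≠ 0) : c i = d := by
  classical
  have h1 : A *ᵥ w = ∑ j, (b.repr w j * sg F (c j)) • b j := by
    conv_lhs => rw [← b.sum_repr w]
    rw [← Matrix.mulVecLin_apply, map_sum]
    refine Finset.sum_congr rfl fun j _ => ?_
    rw [map_smul, Matrix.mulVecLin_apply, h, smul_smul]
  have h3 : b.repr (A *ᵥ w) i = b.repr w i * sg F (c i) := by
    rw [h1, b.repr_sum_self]
  rw [hw, map_smul, Finsupp.smul_apply, smul_eq_mul, mul_comm] at h3
  exact (sg_inj h2 (mul_left_cancel₀ hi h3)).symm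

/-- a fixed functional -/
theorem eq_of_dot (h2 : (2 : F) ≠ 0) (b : Basis κ F (ι → F)) (A : Matrix ι ι F) (c : κ → Bool)
    (h : ∀ i, A *ᵥ b i = sg F (c i) • b i) {w : ι → F} (hw : w ᵥ* A = w) {i : κ}
    (hi : w ⬝ᵥ b i ≠ 0) : c i = false := by
  have h1 : w ⬝ᵥ (A *ᵥ b i) = w ⬝ᵥ b i := by
    rw [Matrix.dotProduct_mulVec, hw]
  rw [h, dotProduct_smul, smul_eq_mul] at h1
  have h3 : sg F (c i) = sg F false := by
    have : sg F false = 1 := rfl
    rw [this]
    exact mul_right_cancel₀ hi (h1.trans (one_mul _).symm)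
  exact sg_inj h2 h3

end Basis

/-- the five patterns -/
def pat (b : Fin 4 → Bool) : Fin 5 → Bool :=
  ![b 2, b 3, (b 1 ^^ b 2) ^^ b 3, (b 0 ^^ b 2) ^^ b 3, ((b 0 ^^ b 1) ^^ b 2) ^^ b 3]

theorem pat_sum (b : Fin 4 → Bool) : (∑ j, if pat b j then 1 else 0) + (if ∀ k, b k = false then 4 else 0) ≤ 4 := by
  revert b
  decide

section core

variable {F : Type u} [Field F] {ι : Type} [Fintype ι] [DecidableEq ι] {T : Type v} [Group T]

/-- the five elements -/
def pt (x : Fin 4 → T) : Fin 5 → T :=
  ![x 2, x 3, x 1 * x 2 * x 3, x 0 * x 2 * x 3, x 0 * x 1 * x 2 * x 3]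

theorem rank_conj (ρ : T →* GL ι F) {s t : T} (h : IsConj s t) :
    ((ρ s : Matrix ι ι F) - 1).rank = ((ρ t : Matrix ι ι F) - 1).rank := by
  obtain ⟨x, hx⟩ := isConj_iff.1 h
  have h4 : ((ρ t : Matrix ι ι F)) - 1 =
      (ρ x : Matrix ι ι F) * (((ρ s : Matrix ι ι F) - 1) * (((ρ x)⁻¹ : GL ι F) : Matrix ι ι F)) := by
    rw [Matrix.sub_mul, Matrix.mul_sub, one_mul, ← Units.val_mul (ρ x), mul_inv_cancel, Units.val_one,
      ← Units.val_mul, ← Units.val_mul, ← mul_assoc, ← hx, map_mul, map_mul, map_inv]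
  have hd : ∀ x : GL ι F, IsUnit (x : Matrix ι ι F).det := fun x =>
    (Matrix.isUnit_iff_isUnit_det _).1 x.isUnit
  rw [h4, Matrix.rank_mul_eq_right_of_isUnit_det _ _ (hd _), Matrix.rank_mul_eq_left_of_isUnit_det _ _ (hd _)]

/-- the configuration -/
structure Cfg (z : T) (x : Fin 4 → T) (s : (Fin 4 → Bool) → T) : Prop where
  ne : z ≠ 1
  zz : z * z = 1
  xx : ∀ i, x i * x i = 1
  xz : ∀ i, x i * z = z * x i
  comm : ∀ i j, x i * x j = x j * x i
  sz : ∀ a, s a * z * (s a)⁻¹ = z
  sx : ∀ a i, s a * x i * (s a)⁻¹ = if a i then x i * z else x i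
  con : ∀ j, IsConj z (pt x j)
  conz : ∀ j, IsConj z (pt x j * z)

theorem core (h2 : (2 : F) ≠ 0) (hι : Fintype.card ι = 27) (ρ : T →* GL ι F) {z : T} {x : Fin 4 → T}
    {s : (Fin 4 → Bool) → T} (C : Cfg z x s)
    (hr : ((ρ z : Matrix ι ι F) - 1).rank = 12 ∨ ((ρ z : Matrix ι ι F) - 1).rank = 16)
    {v w : ι → F} (hv : v ≠ 0) (hw : w ≠ 0) (hfv : ∀ t, (ρ t : Matrix ι ι F) *ᵥ v = v)
    (hfw : ∀ t, w ᵥ* (ρ t : Matrix ι ι F) = w) (hvw : w ⬝ᵥ v = 0) : False := by
  classical
  -- simultaneous diagonalisation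
  have hmul : ∀ a b : T, (ρ (a * b) : Matrix ι ι F) = (ρ a : Matrix ι ι F) * (ρ b : Matrix ι ι F) := fun a b => by
    rw [map_mul, Units.val_mul]
  let f : Option (Fin 4) → T := fun o => o.elim z x
  have hf2 : ∀ o, f o * f o = 1 := by
    intro o; cases o
    · exact C.zz
    · exact C.xx _
  have hfc : ∀ o o', f o * f o' = f o' * f o := by
    intro o o'
    cases o <;> cases o'
    · rfl
    · exact (C.xz _).symm
    · exact C.xz _
    · exact C.comm _ _
  obtain ⟨κ, iκ, b, c, hc⟩ := H357.EP.exists_diag (E := Option (Fin 4)) h2 (finrank F (ι → F)) (ι → F) rfl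
    (fun o => Matrix.toLin' (ρ (f o) : Matrix ι ι F))
    (fun o v => by
      rw [Matrix.toLin'_apply, Matrix.toLin'_apply, Matrix.mulVec_mulVec, ← hmul, hf2, map_one,
        Units.val_one, Matrix.one_mulVec])
    (fun o o' v => by
      rw [Matrix.toLin'_apply, Matrix.toLin'_apply, Matrix.toLin'_apply, Matrix.toLin'_apply, Matrix.mulVec_mulVec,
        Matrix.mulVec_mulVec, ← hmul, ← hmul, hfc])
  have hcz : ∀ i, (ρ z : Matrix ι ι F) *ᵥ b i = sg F (c i none) • b i := fun i => hc i none
  have hcx : ∀ k i, (ρ (x k) : Matrix ι ι F) *ᵥ b i = sg F (c i (some k)) • b i := fun k i => hc i (some k)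
  have hcard : Fintype.card κ = 27 := by
    rw [← hι, ← finrank_eq_card_basis b, Module.finrank_fintype_fun_eq_card]
  -- product of two
  have hprod : ∀ {g h : T} {p q : κ → Bool}, (∀ i, (ρ g : Matrix ι ι F) *ᵥ b i = sg F (p i) • b i) →
      (∀ i, (ρ h : Matrix ι ι F) *ᵥ b i = sg F (q i) • b i) →
      ∀ i, (ρ (g * h) : Matrix ι ι F) *ᵥ b i = sg F (p i ^^ q i) • b i := by
    intro g h p q hg hh i
    rw [hmul, ← Matrix.mulVec_mulVec, hh, Matrix.mulVec_smul, hg, smul_smul, sg_xor, mul_comm]
  have hpt : ∀ j i, (ρ (pt x j) : Matrix ι ι F) *ᵥ b i = sg F (pat (fun k => c i (some k)) j) • b i := by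
    intro j
    fin_cases j
    · exact hcx 2
    · exact hcx 3
    · exact hprod (hprod (hcx 1) (hcx 2)) (hcx 3)
    · exact hprod (hprod (hcx 0) (hcx 2)) (hcx 3)
    · exact hprod (hprod (hprod (hcx 0) (hcx 1)) (hcx 2)) (hcx 3)
  have hrz := rank_eq h2 b _ _ hcz
  -- all patterns with `z ↦ -1` occur
  have hne : ((Finset.univ.filter fun i => c i none = true).card) ≠ 0 := by
    rw [← hrz]; omega
  obtain ⟨i0, hi0⟩ := Finset.card_ne_zero.1 hne
  rw [Finset.mem_filter] at hi0
  have hall : ∀ τ : Fin 4 → Bool, ∃ i, c i none = true ∧ ∀ k, c i (some k) = τ k := by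
    intro τ
    let a : Fin 4 → Bool := fun k => c i0 (some k) ^^ τ k
    let y : ι → F := (ρ (s a) : Matrix ι ι F) *ᵥ b i0
    have hy : y ≠ 0 := by
      intro h0
      have h1 : (ρ (s a)⁻¹ : Matrix ι ι F) *ᵥ y = b i0 := by
        show (ρ (s a)⁻¹ : Matrix ι ι F) *ᵥ ((ρ (s a) : Matrix ι ι F) *ᵥ b i0) = b i0
        rw [Matrix.mulVec_mulVec, ← hmul, inv_mul_cancel, map_one, Units.val_one, Matrix.one_mulVec]
      rw [h0, Matrix.mulVec_zero] at h1
      exact b.ne_zero i0 h1.symm
    have hcj : ∀ {g h : T} {d : Bool}, g * s a = s a * h → (ρ h : Matrix ι ι F) *ᵥ b i0 = sg F d • b i0 →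
        (ρ g : Matrix ι ι F) *ᵥ y = sg F d • y := by
      intro g h d h1 h3
      show (ρ g : Matrix ι ι F) *ᵥ ((ρ (s a) : Matrix ι ι F) *ᵥ b i0) = _
      rw [Matrix.mulVec_mulVec, ← hmul, h1, hmul, ← Matrix.mulVec_mulVec, h3, Matrix.mulVec_smul]
    have hyz : (ρ z : Matrix ι ι F) *ᵥ y = sg F true • y := by
      refine hcj (h := z) ?_ (by rw [hcz, hi0.2])
      have := C.sz a
      rw [mul_inv_eq_iff_eq_mul] at this
      exact this.symm
    have hyx : ∀ k, (ρ (x k) : Matrix ι ι F) *ᵥ y = sg F (τ k) • y := by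
      intro k
      have h1 := C.sx a k
      have h3 : τ k = (c i0 (some k) ^^ a k) := by
        show τ k = (c i0 (some k) ^^ (c i0 (some k) ^^ τ k))
        cases τ k <;> cases c i0 (some k) <;> rfl
      rcases ha : a k with _ | _
      · rw [ha, if_neg (by simp), mul_inv_eq_iff_eq_mul] at h1
        rw [h3, ha, Bool.xor_false]
        exact hcj h1.symm (hcx k i0)
      · rw [ha, if_pos rfl, mul_inv_eq_iff_eq_mul] at h1
        rw [h3, ha]
        refine hcj (h := x k * z) ?_ ?_
        · -- `x k * s a = s a * (x k * z)`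
          have h5 := C.sz a
          rw [mul_inv_eq_iff_eq_mul] at h5
          rw [← mul_assoc, h1, mul_assoc, mul_assoc, h5, ← mul_assoc z, C.zz, one_mul]
        · have h6 := hprod (hcx k) hcz i0
          rw [hi0.2] at h6
          exact h6
    obtain ⟨i, hi⟩ : ∃ i, b.repr y i ≠ 0 := by
      by_contra hcon
      push Not at hcon
      exact hy (b.repr.map_eq_zero_iff.1 (Finsupp.ext hcon))
    exact ⟨i, eq_of_repr h2 b _ _ hcz hyz hi, fun k => eq_of_repr h2 b _ _ (hcx k) (hyx k) hi⟩
  have h16 : 16 ≤ (Finset.univ.filter fun i => c i none = true).card := by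
    choose g hg1 hg2 using hall
    have hinj : Function.Injective g := by
      intro τ τ' h
      funext k
      rw [← hg2 τ k, ← hg2 τ' k, h]
    have h1 : (Finset.univ.image g).card = 16 := by
      rw [Finset.card_image_of_injective _ hinj, Finset.card_univ, Fintype.card_fun, Fintype.card_bool,
        Fintype.card_fin]
      norm_num
    rw [← h1]
    apply Finset.card_le_card
    intro i hi
    obtain ⟨τ, -, rfl⟩ := Finset.mem_image.1 hi
    exact Finset.mem_filter.2 ⟨Finset.mem_univ _, hg1 τ⟩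
  have hz16 : (Finset.univ.filter fun i => c i none = true).card = 16 := by omega
  -- the numbers
  have hp16 : ∀ j, (Finset.univ.filter fun i => pat (fun k => c i (some k)) j = true).card = 16 := by
    intro j
    rw [← rank_eq h2 b _ _ (hpt j), ← rank_conj ρ (C.con j), hrz, hz16]
  have hpz16 : ∀ j, (Finset.univ.filter fun i => (pat (fun k => c i (some k)) j ^^ c i none) = true).card = 16 := by
    intro j
    rw [← rank_eq h2 b _ _ (hprod (hpt j) hcz), ← rank_conj ρ (C.conz j), hrz, hz16]
  have h8 : ∀ j, (Finset.univ.filter fun i => c i none = false ∧ pat (fun k => c i (some k)) j = true).card = 8 := by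
    intro j
    have h1 : ∀ i, (if pat (fun k => c i (some k)) j = true then 1 else 0) +
        (if (pat (fun k => c i (some k)) j ^^ c i none) = true then 1 else 0) =
        2 * (if c i none = false ∧ pat (fun k => c i (some k)) j = true then 1 else 0) +
          (if c i none = true then 1 else 0) := by
      intro i
      cases pat (fun k => c i (some k)) j <;> cases c i none <;> simp
    have h3 := Finset.sum_congr (rfl : (Finset.univ : Finset κ) = Finset.univ) fun i _ => h1 i
    rw [Finset.sum_add_distrib, Finset.sum_add_distrib, ← Finset.mul_sum, ← Finset.card_filter, ← Finset.card_filter,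
      ← Finset.card_filter, ← Finset.card_filter, hp16, hpz16, hz16] at h3
    omega
  have h11 : (Finset.univ.filter fun i => c i none = false).card = 11 := by
    have h1 := Finset.card_filter_add_card_filter_not (s := (Finset.univ : Finset κ)) (fun i => c i none = true)
    rw [hz16, Finset.card_univ, hcard] at h1
    have h3 : (Finset.univ.filter fun i => ¬ c i none = true) = Finset.univ.filter fun i => c i none = false := by
      ext i; simp
    rw [h3] at h1
    omega
  -- at most one trivial index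
  have hm : (Finset.univ.filter fun i => c i none = false ∧ ∀ k, c i (some k) = false).card ≤ 1 := by
    have h1 : ∑ i ∈ Finset.univ.filter (fun i => c i none = false),
        ((∑ j, if pat (fun k => c i (some k)) j then 1 else 0) +
          (if ∀ k, c i (some k) = false then 4 else 0)) ≤ 11 * 4 := by
      rw [← h11, ← smul_eq_mul]
      exact Finset.sum_le_card_nsmul _ _ _ fun i _ => pat_sum _
    rw [Finset.sum_add_distrib, Finset.sum_comm] at h1
    have h3 : ∀ j, ∑ i ∈ Finset.univ.filter (fun i => c i none = false),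
        (if pat (fun k => c i (some k)) j then 1 else 0) = 8 := by
      intro j
      rw [← h8 j, ← Finset.card_filter, Finset.filter_filter]
    have h4 : ∑ i ∈ Finset.univ.filter (fun i => c i none = false), (if ∀ k, c i (some k) = false then 4 else 0) =
        4 * (Finset.univ.filter fun i => c i none = false ∧ ∀ k, c i (some k) = false).card := by
      rw [← Finset.sum_filter, Finset.sum_const, Finset.filter_filter, smul_eq_mul, mul_comm]
    rw [Finset.sum_congr rfl fun j _ => h3 j, Finset.sum_const, Finset.card_univ, Fintype.card_fin, smul_eq_mul,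
      h4] at h1
    omega
  have htriv : ∀ i, (c i none = false ∧ ∀ k, c i (some k) = false) → ∀ i',
      (c i' none = false ∧ ∀ k, c i' (some k) = false) → i = i' := by
    intro i hi i' hi'
    exact Finset.card_le_one.1 hm i (Finset.mem_filter.2 ⟨Finset.mem_univ _, hi⟩) i'
      (Finset.mem_filter.2 ⟨Finset.mem_univ _, hi'⟩)
  -- the fixed vector
  have hvt : ∀ i, b.repr v i ≠ 0 → (c i none = false ∧ ∀ k, c i (some k) = false) := fun i hi =>
    ⟨eq_of_repr h2 b _ _ hcz (d := false) (by rw [hfv]; exact (one_smul F v).symm) hi,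
      fun k => eq_of_repr h2 b _ _ (hcx k) (d := false) (by rw [hfv]; exact (one_smul F v).symm) hi⟩
  have hwt : ∀ i, w ⬝ᵥ b i ≠ 0 → (c i none = false ∧ ∀ k, c i (some k) = false) := fun i hi =>
    ⟨eq_of_dot h2 b _ _ hcz (hfw z) hi, fun k => eq_of_dot h2 b _ _ (hcx k) (hfw _) hi⟩
  obtain ⟨i, hi⟩ : ∃ i, b.repr v i ≠ 0 := by
    by_contra hcon
    push Not at hcon
    exact hv (b.repr.map_eq_zero_iff.1 (Finsupp.ext hcon))
  have hsum : w ⬝ᵥ v = ∑ i, b.repr v i * (w ⬝ᵥ b i) := by
    conv_lhs => rw [← b.sum_repr v]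
    rw [dotProduct_sum]
    refine Finset.sum_congr rfl fun j _ => ?_
    rw [dotProduct_smul, smul_eq_mul]
  obtain ⟨i', hi'⟩ : ∃ i', w ⬝ᵥ b i' ≠ 0 := by
    by_contra hcon
    push Not at hcon
    apply hw
    have h1 : ∀ u : ι → F, w ⬝ᵥ u = 0 := by
      intro u
      rw [← b.sum_repr u, dotProduct_sum]
      refine Finset.sum_eq_zero fun j _ => ?_
      rw [dotProduct_smul, hcon, smul_zero]
    funext k
    have := h1 (Pi.single k 1)
    rwa [dotProduct_single, mul_one] at this
  have hii : i' = i := htriv i' (hwt i' hi') i (hvt i hi)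
  subst hii
  rw [hsum, Finset.sum_eq_single i'] at hvw
  · exact (mul_ne_zero hi hi') hvw
  · intro j _ hj
    by_contra hne0
    exact hj (htriv j (hvt j (left_ne_zero_of_mul hne0)) i' (hvt i' hi))
  · intro h; exact absurd (Finset.mem_univ _) h

end core

end Cfsg.Agent.H476.TF
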