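import Cfsg.Agent.H129.FE.Grp
import Cfsg.Agent.H689.ExcSix

/-!
# `F₄(F)` on the module of dimension 27 of `E₆` (helper476)

`rho F : chevF4.group F →* Zgrp F` with `ad F (rho F y) = toE6 F y`; the group fixes the vector `v0 F`, on the right too,
and `v0 F ⬝ᵥ v0 F = 3`.
-/

set_option autoImplicit false
set_option linter.unusedSectionVars false

namespace Cfsg.Agent.H476.TF

open Cfsg Cfsg.Lie Matrix
open Cfsg.Agent.ChevalleyStructure.E6Min Cfsg.Agent.ChevalleyStructure.E6Min.Tables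
  Cfsg.Agent.ChevalleyStructure.E6Min.Basic Cfsg.Agent.ChevalleyStructure.E6Min.Adjoint
open Cfsg.Agent.ChevalleyStructure Cfsg.Agent.ChevalleyStructure.Elts Cfsg.Agent.H129.FE
  Cfsg.Agent.Nodes.RGDChev Cfsg.Agent.Nodes Cfsg.Agent.H129.CycT Cfsg.Agent.GpExc.Field

/-- the fixed vector, by codes -/
def vN (j : ℕ) : ℤ := if j = 0 then 1 else if j = 4 then -1 else if j = 8 then 1 else 0

/-- the check for a product of two root elements -/
def chk2 (a b : ℕ) (s1 s2 : ℤ) : Bool := allLt 27 fun j =>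
  (s1 * (sgN a j * vN (srN a j)) + s2 * (sgN b j * vN (srN b j)) == 0) &&
    (sgN a j * (sgN b (srN a j) * vN (srN b (srN a j))) == 0)

/-- the check for one root element -/
def chk1 (a : ℕ) : Bool := allLt 27 fun j => sgN a j * vN (srN a j) == 0

theorem chk_all : allLt 48 (fun r => if B r < 72 then
    Nat.blt (A r) 72 && chk2 (A r) (B r) (S r) 1 && chk2 (71 - B r) (71 - A r) 1 (S r)
    else Nat.blt (A r) 72 && chk1 (A r) && chk1 (71 - A r)) = true := by decide +kernel

section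

variable (F : Type*) [Field F]

/-- the fixed vector -/
def v0 : I27 → F := fun x => ((vN (code x) : ℤ) : F)

variable {F}

theorem v0_sr {a : ℕ} (ha : a < 72) (x : I27) : v0 F (sr a x) = ((vN (srN a (code x)) : ℤ) : F) := by
  rw [v0, code_sr ha]

theorem fix2 {a b : ℕ} (ha : a < 72) (hb : b < 72) {s1 s2 : ℤ} (h : chk2 a b s1 s2 = true) (t : F) :
    zM a ((s1 : F) * t) *ᵥ (zM b ((s2 : F) * t) *ᵥ v0 F) = v0 F := by
  funext x
  have h1 := allLt_spec h _ (code_lt x)
  rw [Bool.and_eq_true, beq_iff_eq, beq_iff_eq] at h1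
  obtain ⟨h1, h2⟩ := h1
  have h1' := congrArg (Int.cast : ℤ → F) h1
  have h2' := congrArg (Int.cast : ℤ → F) h2
  push_cast at h1' h2'
  rw [zM_mulVec, zM_mulVec, zM_mulVec, v0_sr hb, v0_sr ha, v0_sr hb, code_sr ha, sg_sr ha]
  show v0 F x + _ * (((sgN b (code x) : ℤ) : F) * _) + _ * (((sgN a (code x) : ℤ) : F) * (_ + _)) = _
  linear_combination t * h1' + (s1 : F) * (s2 : F) * t * t * h2'

theorem fix1 {a : ℕ} (ha : a < 72) (h : chk1 a = true) (t : F) : zM a t *ᵥ v0 F = v0 F := by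
  funext x
  have h1 := allLt_spec h _ (code_lt x)
  rw [beq_iff_eq] at h1
  have h1' := congrArg (Int.cast : ℤ → F) h1
  push_cast at h1'
  rw [zM_mulVec, v0_sr ha]
  show v0 F x + _ * (((sgN a (code x) : ℤ) : F) * _) = _
  linear_combination t * h1'

theorem Nm_transpose {r : ℕ} (hr : r < 72) : (Nm F r)ᵀ = Nm F (71 - r) := by
  ext x y
  rw [transpose_apply, Nm_apply, Nm_apply]
  have key : ∀ {a b : I27} {r : ℕ}, r < 72 → b = sr r a → sg r a ≠ 0 →
      a = sr (71 - r) b ∧ sg (71 - r) b = sg r a := by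
    intro a b r hr hb ha
    obtain ⟨h1, h2, -⟩ := row_opp hr ha
    subst hb
    refine ⟨h1.symm, ?_⟩
    have h3 := sg_sq r a ha
    have h4 : sg r a * sg (71 - r) (sr r a) = sg r a * sg r a := by rw [h2, h3]
    exact mul_left_cancel₀ ha h4
  by_cases h1 : x = sr r y ∧ sg r y ≠ 0
  · obtain ⟨h2, h3⟩ := key hr h1.1 h1.2
    rw [if_pos h1.1, if_pos h2, h3]
  · have e1 : (if x = sr r y then ((sg r y : ℤ) : F) else 0) = 0 := by
      by_cases hx : x = sr r y
      · have : sg r y = 0 := by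
          by_contra h; exact h1 ⟨hx, h⟩
        rw [if_pos hx, this, Int.cast_zero]
      · rw [if_neg hx]
    have e2 : (if y = sr (71 - r) x then ((sg (71 - r) x : ℤ) : F) else 0) = 0 := by
      by_cases hy : y = sr (71 - r) x
      · have : sg (71 - r) x = 0 := by
          by_contra h
          obtain ⟨h2, h3⟩ := key (show 71 - r < 72 by omega) hy h
          rw [opp_opp hr] at h2 h3
          exact h1 ⟨h2, h3 ▸ h⟩
        rw [if_pos hy, this, Int.cast_zero]
      · rw [if_neg hy]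
    rw [e1, e2]

theorem zM_transpose {r : ℕ} (hr : r < 72) (t : F) : (zM r t)ᵀ = zM (71 - r) t := by
  rw [zM_def, zM_def, transpose_add, transpose_one, transpose_smul, Nm_transpose hr]

variable (F)

/-- the stabiliser of the vector, on both sides -/
def Fx : Subgroup (Zgrp F) where
  carrier := {g | ((g : GL I27 F) : Matrix I27 I27 F) *ᵥ v0 F = v0 F ∧ v0 F ᵥ* ((g : GL I27 F) : Matrix I27 I27 F) = v0 F}
  one_mem' := by
    refine ⟨?_, ?_⟩
    · show ((1 : GL I27 F) : Matrix I27 I27 F) *ᵥ v0 F = v0 F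
      rw [Units.val_one, one_mulVec]
    · show v0 F ᵥ* ((1 : GL I27 F) : Matrix I27 I27 F) = v0 F
      rw [Units.val_one, vecMul_one]
  mul_mem' := by
    rintro g h ⟨hg, hg'⟩ ⟨hh, hh'⟩
    refine ⟨?_, ?_⟩
    · show (((g : GL I27 F) * (h : GL I27 F) : GL I27 F) : Matrix I27 I27 F) *ᵥ v0 F = v0 F
      rw [Units.val_mul, ← mulVec_mulVec, hh, hg]
    · show v0 F ᵥ* (((g : GL I27 F) * (h : GL I27 F) : GL I27 F) : Matrix I27 I27 F) = v0 F
      rw [Units.val_mul, ← vecMul_vecMul, hg', hh']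
  inv_mem' := by
    rintro g ⟨hg, hg'⟩
    refine ⟨?_, ?_⟩
    · show (((g : GL I27 F)⁻¹ : GL I27 F) : Matrix I27 I27 F) *ᵥ v0 F = v0 F
      conv_lhs => rw [← hg]
      rw [mulVec_mulVec, ← Units.val_mul, inv_mul_cancel, Units.val_one, one_mulVec]
    · show v0 F ᵥ* (((g : GL I27 F)⁻¹ : GL I27 F) : Matrix I27 I27 F) = v0 F
      conv_lhs => rw [← hg']
      rw [vecMul_vecMul, ← Units.val_mul, mul_inv_cancel, Units.val_one, vecMul_one]

variable {F}

theorem mem_Fx {g : Zgrp F} : g ∈ Fx F ↔ ((g : GL I27 F) : Matrix I27 I27 F) *ᵥ v0 F = v0 F ∧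
    v0 F ᵥ* ((g : GL I27 F) : Matrix I27 I27 F) = v0 F := Iff.rfl

/-- the root element in `Zgrp` -/
def zZ (r : ℕ) (t : F) : Zgrp F := ⟨zU r t, zU_mem r t⟩

theorem ad_zZ (r : ℕ) (t : F) : ad F (zZ r t) = xg F typeE6.inList r t := by
  apply Subtype.ext
  by_cases hr : r < 72
  · apply Units.ext
    refine P_unique (g := zU r t) (ad_P ⟨zU r t, zU_mem _ _⟩) ?_
    rw [coe_zU hr, coe_xg, coe_xG]
    have h1 := P_root (F := F) ⟨r, hr⟩ t
    have h2 : chevE6.x F r t = chevE6.xMat F ⟨r, hr⟩ t := by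
      unfold ChevalleyDatum.x
      exact dif_pos hr
    rw [h2]
    exact h1
  · have h1 : zZ (F := F) r t = 1 := by
      apply Subtype.ext
      show zU r t = 1
      unfold zU
      rw [dif_neg hr]
    rw [h1, map_one, coe_xg, xG_of_not_lt typeE6.inList hr]
    rfl

theorem coe_zZ {r : ℕ} (hr : r < 72) (t : F) : ((zZ r t : GL I27 F) : Matrix I27 I27 F) = zM r t := coe_zU hr t

/-- the generators are in the stabiliser -/
theorem gen_mem {r : ℕ} (hr : r < 48) (t : F) : zZ (A r) ((S r : F) * t) * zZ (B r) t ∈ Fx F := by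
  have h := allLt_spec chk_all r hr
  by_cases hb : B r < 72
  · rw [if_pos hb, Bool.and_eq_true, Bool.and_eq_true, Nat.blt_eq] at h
    obtain ⟨⟨ha, h1⟩, h2⟩ := h
    rw [mem_Fx]
    have e : (((zZ (A r) ((S r : F) * t) * zZ (B r) t : Zgrp F) : GL I27 F) : Matrix I27 I27 F) =
        zM (A r) ((S r : F) * t) * zM (B r) t := by
      rw [Subgroup.coe_mul, Units.val_mul, coe_zZ ha, coe_zZ hb]
    rw [e]
    refine ⟨?_, ?_⟩
    · have h3 := fix2 ha hb h1 t
      rw [Int.cast_one, one_mul] at h3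
      rw [← mulVec_mulVec]
      exact h3
    · have h3 := fix2 (F := F) (a := 71 - B r) (b := 71 - A r) (by omega) (by omega) h2 t
      rw [Int.cast_one, one_mul] at h3
      rw [← mulVec_transpose, transpose_mul, zM_transpose ha, zM_transpose hb, ← mulVec_mulVec]
      exact h3
  · rw [if_neg hb, Bool.and_eq_true, Bool.and_eq_true, Nat.blt_eq] at h
    obtain ⟨⟨ha, h1⟩, h2⟩ := h
    have h4 : zZ (F := F) (B r) t = 1 := by
      apply Subtype.ext
      show zU (B r) t = 1
      unfold zU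
      rw [dif_neg hb]
    rw [h4, mul_one, mem_Fx, coe_zZ ha]
    refine ⟨fix1 ha h1 _, ?_⟩
    rw [← mulVec_transpose, zM_transpose ha]
    exact fix1 (by omega) h2 _

theorem simple_lt' : ∀ i < 4, chevF4.simple i < 48 ∧ chevF4.neg (chevF4.simple i) < 48 := by decide +kernel

theorem exists_lift [Finite F] (y : ↥(chevF4.group F)) : ∃ g ∈ Fx F, ad F g = toE6 F y := by
  have h := mem_of_simple typeF4 F (toE6 F) ((Fx F).map (ad F))
    (fun i hi t => ⟨_, gen_mem (simple_lt' i hi).1 t, by rw [map_mul, ad_zZ, ad_zZ, toE6_xg]⟩)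
    (fun i hi t => ⟨_, gen_mem (simple_lt' i hi).2 t, by rw [map_mul, ad_zZ, ad_zZ, toE6_xg]⟩) y
  exact h

theorem v0_dec : v0 F (dec 0) = 1 := by
  rw [v0, code_dec (by norm_num)]
  simp [vN]

theorem ker_Fx {g : Zgrp F} (hg : ad F g = 1) (h : g ∈ Fx F) : g = 1 := by
  have h1 := H689.scalar_of_comm (g := ((g : GL I27 F) : Matrix I27 I27 F))
    fun r hr => comm_B_of_ker hg (Sum.inr ⟨r, hr⟩)
  have h2 := congrFun (mem_Fx.1 h).1 (dec 0)
  obtain ⟨c, hc⟩ : ∃ c : F, c = ((g : GL I27 F) : Matrix I27 I27 F) (dec 0) (dec 0) := ⟨_, rfl⟩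
  rw [← hc] at h1
  rw [h1, mulVec_diagonal, v0_dec, mul_one] at h2
  apply Subtype.ext
  apply Units.ext
  rw [h1, h2]
  show Matrix.diagonal (fun _ => (1 : F)) = 1
  exact diagonal_one

theorem lift_unique {g h : Zgrp F} (hg : g ∈ Fx F) (hh : h ∈ Fx F) (e : ad F g = ad F h) : g = h := by
  rw [← inv_mul_eq_one]
  exact ker_Fx (by rw [map_mul, map_inv, e, inv_mul_cancel]) (mul_mem (inv_mem hg) hh)

variable (F)

/-- **`F₄(F)` on the module of dimension 27** -/
noncomputable def rho [Finite F] : ↥(chevF4.group F) →* Zgrp F :=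
  MonoidHom.mk' (fun y => (exists_lift y).choose) fun x y => by
    refine lift_unique (exists_lift (x * y)).choose_spec.1
      (mul_mem (exists_lift x).choose_spec.1 (exists_lift y).choose_spec.1) ?_
    refine (exists_lift (x * y)).choose_spec.2.trans ((map_mul (toE6 F) x y).trans ?_)
    exact (congrArg₂ (· * ·) (exists_lift x).choose_spec.2.symm (exists_lift y).choose_spec.2.symm).trans
      (map_mul (ad F) _ _).symm

variable {F}

theorem rho_mem [Finite F] (y : ↥(chevF4.group F)) : rho F y ∈ Fx F := (exists_lift y).choose_spec.1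

theorem ad_rho [Finite F] (y : ↥(chevF4.group F)) : ad F (rho F y) = toE6 F y := (exists_lift y).choose_spec.2

theorem rho_injective [Finite F] : Function.Injective (rho F) := by
  intro x y h
  apply toE6_injective F
  rw [← ad_rho, ← ad_rho, h]

theorem dot_v0 : v0 F ⬝ᵥ v0 F = 3 := by
  have h1 : ∀ x : I27, v0 F x * v0 F x = if x = dec 0 ∨ x = dec 4 ∨ x = dec 8 then 1 else 0 := by
    intro x
    have h2 : vN (code x) * vN (code x) = if x = dec 0 ∨ x = dec 4 ∨ x = dec 8 then 1 else 0 := by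
      revert x
      decide +kernel
    rw [v0, ← Int.cast_mul, h2]
    split_ifs <;> simp
  rw [dotProduct, Finset.sum_congr rfl fun x _ => h1 x, Finset.sum_boole]
  have h3 : (Finset.univ.filter fun x : I27 => x = dec 0 ∨ x = dec 4 ∨ x = dec 8).card = 3 := by decide +kernel
  rw [h3]
  norm_num

theorem v0_ne : v0 F ≠ 0 := by
  intro h
  have := congrFun h (dec 0)
  rw [v0_dec] at this
  exact one_ne_zero this

end

end Cfsg.Agent.H476.TF
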